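import Groth.Agent.L05.Point.Crit
import Groth.Agent.L13.Fitting.Fibre
import Groth.Agent.L13.Fitting.Minors
import Mathlib.RingTheory.Extension.Cotangent.Basic
import Mathlib.AlgebraicGeometry.Morphisms.FinitePresentation
import Mathlib.AlgebraicGeometry.Morphisms.FlatMono

/-!
# Constructibility of the unramified locus, and the open where a closed subscheme is everything
-/

set_option autoImplicit false
set_option backward.isDefEq.respectTransparency false
set_option backward.isDefEq.respectTransparency.types false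

universe u

open CategoryTheory CategoryTheory.Limits AlgebraicGeometry Topology TopologicalSpace TensorProduct

noncomputable section

namespace Groth.L11.IsoNat.CleanOpen

open Groth.L05.Point

theorem isCompact_of_isConstructible {X : Type*} [TopologicalSpace X] [CompactSpace X] [QuasiSeparatedSpace X]
    [PrespectralSpace X] {s : Set X} (hs : Topology.IsConstructible s) : IsCompact s := by
  haveI : Nonempty {U : Set X // IsOpen U ∧ IsCompact U} := ⟨⟨∅, isOpen_empty, isCompact_empty⟩⟩
  refine Topology.IsConstructible.induction_of_isTopologicalBasis (P := fun s _ => IsCompact s)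
    (fun U : {U : Set X // IsOpen U ∧ IsCompact U} => U.1)
    (by rw [Subtype.range_coe_subtype]; exact PrespectralSpace.isTopologicalBasis)
    (fun U => U.2.2) (fun i t _ => ?_) (fun s hs t ht h₁ h₂ => h₁.union h₂) s hs
  exact IsCompact.diff i.2.2 (isOpen_biUnion fun j _ => j.2.1)

theorem isConstructible_unramifiedLocus (A B : Type u) [CommRing A] [CommRing B] [Algebra A B]
    [Algebra.FinitePresentation A B] : IsConstructible (Algebra.unramifiedLocus A B) := by
  obtain ⟨s, hs⟩ := Groth.L13.Fitting.ideal_fg_of_finitePresentation (R := B) (M := Ω[B⁄A]) 0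
  have e : Algebra.unramifiedLocus A B = (PrimeSpectrum.zeroLocus (s : Set B))ᶜ := by
    rw [Algebra.unramifiedLocus_eq_compl_support, ← PrimeSpectrum.zeroLocus_span (s : Set B)]
    congr 1
    ext p
    rw [Module.mem_support_iff_nontrivial_residueField_tensorProduct, PrimeSpectrum.mem_zeroLocus,
      SetLike.coe_subset_coe, show Ideal.span (s : Set B) = Fitt.ideal B Ω[B⁄A] 0 from hs,
      iff_comm, ← not_iff_not, Groth.L13.Fitting.not_le_iff_finrank, Nat.le_zero,
      not_nontrivial_iff_subsingleton]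
    exact Module.finrank_zero_iff
  rw [e]
  exact (PrimeSpectrum.isRetrocompact_zeroLocus_compl s.finite_toSet).isConstructible
    (PrimeSpectrum.isClosed_zeroLocus _).isOpen_compl

variable {W U E : Scheme.{u}} (k : W ⟶ U)

/-- The points near which a morphism is formally unramified. -/
def unrOpen : W.Opens := ⨆ N : {N : W.Opens // FormallyUnramified (N.ι ≫ k)}, N.1

theorem mem_unrOpen {w : W} : w ∈ unrOpen k ↔ Nhd @FormallyUnramified k w := by
  rw [unrOpen, Opens.mem_iSup]
  exact ⟨fun ⟨N, h⟩ => ⟨N.1, h, N.2⟩, fun ⟨N, h, hN⟩ => ⟨⟨N, hN⟩, h⟩⟩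

theorem formallyUnramified_unrOpen : FormallyUnramified ((unrOpen k).ι ≫ k) := by
  let N := {N : W.Opens // FormallyUnramified (N.ι ≫ k)}
  refine (IsZariskiLocalAtSource.iff_of_iSup_eq_top (P := @FormallyUnramified)
    (U := fun N : N => (unrOpen k).ι ⁻¹ᵁ N.1) ?_).2 fun N => ?_
  · exact TopologicalSpace.Opens.ext (Set.eq_univ_of_forall fun w => by
      obtain ⟨N, hN⟩ := Opens.mem_iSup.1 (show w.1 ∈ ⨆ N : N, N.1 from w.2)
      exact Opens.mem_iSup.2 ⟨N, hN⟩)
  · have e : ((unrOpen k).ι ∣_ N.1) ≫ N.1.ι ≫ k = ((unrOpen k).ι ⁻¹ᵁ N.1).ι ≫ (unrOpen k).ι ≫ k :=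
      morphismRestrict_ι_assoc _ _ _
    rw [← e]
    exact MorphismProperty.comp_mem _ _ _ inferInstance N.2

variable [LocallyOfFinitePresentation k]

theorem isLocallyConstructible_unrOpen : IsLocallyConstructible (unrOpen k : Set W) := by
  refine IsLocallyConstructible.of_isOpenCover
    (U := fun V : {V : W.Opens // IsAffineOpen V ∧ ∃ U₀ : U.Opens, IsAffineOpen U₀ ∧ V ≤ k ⁻¹ᵁ U₀} => V.1)
    (TopologicalSpace.Opens.ext (Set.eq_univ_of_forall fun w => ?_)) fun ⟨V, hV, U₀, hU, hVU⟩ => ?_
  · obtain ⟨U₀, hU, hwU, -⟩ := exists_isAffineOpen_mem_and_subset (X := U) (x := k w) (U := ⊤) trivial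
    obtain ⟨V, hV, hwV, hVU⟩ := exists_isAffineOpen_mem_and_subset (X := W) (x := w) (U := k ⁻¹ᵁ U₀) hwU
    exact Opens.mem_iSup.2 ⟨⟨V, hV, U₀, hU, hVU⟩, hwV⟩
  · let φ := k.appLE U₀ V hVU
    have e : hV.fromSpec ≫ k = Spec.map φ ≫ hU.fromSpec := (IsAffineOpen.SpecMap_appLE_fromSpec k hU hV hVU).symm
    have hfp : φ.hom.FinitePresentation :=
      HasRingHomProperty.appLE @LocallyOfFinitePresentation k inferInstance ⟨U₀, hU⟩ ⟨V, hV⟩ hVU
    letI : Algebra Γ(U, U₀) Γ(W, V) := φ.hom.toAlgebra
    haveI : Algebra.FinitePresentation Γ(U, U₀) Γ(W, V) := hfp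
    have key : hV.fromSpec ⁻¹' (unrOpen k : Set W) = Algebra.unramifiedLocus Γ(U, U₀) Γ(W, V) := by
      ext q
      rw [Set.mem_preimage, SetLike.mem_coe, mem_unrOpen]
      constructor
      · intro h
        obtain ⟨N, hqN, hN⟩ := nhd_openImm_comp k hV.fromSpec q h
        rw [e, ← Category.assoc] at hN
        haveI := hN
        have h' : FormallyUnramified (N.ι ≫ Spec.map φ) :=
          FormallyUnramified.of_comp (N.ι ≫ Spec.map φ) hU.fromSpec
        obtain ⟨_, ⟨_, ⟨f, rfl⟩, rfl⟩, hqf, hf⟩ :=
          PrimeSpectrum.isBasis_basic_opens.exists_subset_of_mem_open (show q ∈ (N : Set _) from hqN) N.2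
        let j := Spec.map (CommRingCat.ofHom (algebraMap Γ(W, V) (Localization.Away f)))
        haveI : IsOpenImmersion j := IsOpenImmersion.of_isLocalization f
        have hr : Set.range j ⊆ Set.range N.ι := by
          rw [Scheme.Opens.range_ι]
          rintro _ ⟨p, rfl⟩
          refine hf ?_
          rw [← PrimeSpectrum.localization_away_comap_range (Localization.Away f) f]
          exact ⟨p, rfl⟩
        have hj : FormallyUnramified (j ≫ Spec.map φ) := by
          rw [← IsOpenImmersion.lift_fac N.ι j hr, Category.assoc]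
          exact MorphismProperty.comp_mem _ _ _ inferInstance h'
        rw [← Spec.map_comp, HasRingHomProperty.Spec_iff (P := @FormallyUnramified)] at hj
        exact Algebra.basicOpen_subset_unramifiedLocus_iff.2 (RingHom.formallyUnramified_algebraMap.1 hj) hqf
      · intro h
        haveI : Algebra.IsUnramifiedAt Γ(U, U₀) q.asIdeal := h
        obtain ⟨r, hr, hru⟩ := Algebra.exists_formallyUnramified_of_isUnramifiedAt (R := Γ(U, U₀)) q.asIdeal
        obtain ⟨N, hqN, hN⟩ := nhd_of_away (P := @FormallyUnramified) φ q r hr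
          (RingHom.formallyUnramified_algebraMap.mpr hru)
        refine nhd_of_openImm (P := @FormallyUnramified) k (N.ι ≫ hV.fromSpec) ⟨q, hqN⟩ ?_
        rw [Category.assoc, e, ← Category.assoc]
        exact MorphismProperty.comp_mem _ _ _ hN inferInstance
    have hc := (isConstructible_unramifiedLocus Γ(U, U₀) Γ(W, V)).isLocallyConstructible
    rw [← key] at hc
    have := hc.preimage_of_isOpenEmbedding hV.isoSpec.hom.isOpenEmbedding
    have e' : hV.isoSpec.hom ≫ hV.fromSpec = V.ι := by
      rw [← hV.isoSpec_inv_ι, Iso.hom_inv_id_assoc]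
    rw [← Set.preimage_comp, ← TopCat.coe_comp, ← Scheme.Hom.comp_base, e'] at this
    exact this

end Groth.L11.IsoNat.CleanOpen
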