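import Groth.Agent.L11.IsoNat.CleanOpen.Unr
import Groth.Agent.L05.Point.UnramDescent
import Groth.Agent.L23.Univ
import Groth.Agent.L24.Thick.Quot
import Groth.Agent.L20.FibreScheme

/-!
# The locus of the base over which a separated space is only its section
-/

set_option autoImplicit false
set_option backward.isDefEq.respectTransparency false
set_option backward.isDefEq.respectTransparency.types false

universe u

open CategoryTheory CategoryTheory.Limits AlgebraicGeometry Topology TopologicalSpace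

noncomputable section

namespace Groth.L11.IsoNat.CleanOpen

open Groth.L05.Point

variable {S : Scheme.{u}} {G : AlgSp.Sp S} {U : Over S} {d : G ⟶ (AlgSp.yon S).obj U}
  {ε : (AlgSp.yon S).obj U ⟶ G}

/-- Over every `Q` over `T` the only point of `G` is the section. -/
def Only (d : G ⟶ (AlgSp.yon S).obj U) (ε : (AlgSp.yon S).obj U ⟶ G) {T : Over S} (g : T ⟶ U) : Prop :=
  ∀ (Q : Over S) (r : Q ⟶ T) (l : (AlgSp.yon S).obj Q ⟶ G), l ≫ d = (AlgSp.yon S).map (r ≫ g) →
    l = (AlgSp.yon S).map (r ≫ g) ≫ ε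

theorem exists_open (hε : ε ≫ d = 𝟙 _) (hsep : AlgSp.IsSeparatedMor d)
    (huc : AlgSp.IsUnivClosedMor d) (hlfp : AlgSp.LocP @LocallyOfFinitePresentation d)
    {W : Over S} (a : (AlgSp.yon S).obj W ⟶ G) (ha : AlgSp.RepWith @Etale a)
    (has : AlgSp.RepWith @Surjective a) :
    ∃ V : U.left.Opens, (∀ (T : Over S) (g : T ⟶ U), Only d ε g ↔ ∀ t, g.left t ∈ V) ∧
      (IsAffine U.left → CompactSpace W.left → IsCompact (V : Set U.left)) := by
  obtain ⟨k, hk⟩ := (AlgSp.yon S).map_surjective (a ≫ d)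
  haveI hklfp : LocallyOfFinitePresentation k.left :=
    hlfp a (𝟙 _) k ha (AlgSp.repWith_id _ U) (by rw [Category.comp_id, hk])
  -- the closed subscheme where the chart is the unit
  let γ : (AlgSp.yon S).obj W ⟶ pullback d d := pullback.lift a ((AlgSp.yon S).map k ≫ ε)
    (by rw [Category.assoc, hε, Category.comp_id, hk])
  let i : hsep.1.pullback γ ⟶ W := hsep.1.snd γ
  let E := hsep.1.pullback γ
  haveI : IsClosedImmersion i.left := Groth.L23.repWith_snd hsep γ
  haveI : Mono i := Over.mono_of_mono_left i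
  have hi : (AlgSp.yon S).map i ≫ a = (AlgSp.yon S).map i ≫ (AlgSp.yon S).map k ≫ ε := by
    have h := (hsep.1.isPullback γ).w
    have h1 := congrArg (· ≫ pullback.fst d d) h
    have h2 := congrArg (· ≫ pullback.snd d d) h
    simp only [Category.assoc, γ, pullback.diagonal_fst, pullback.diagonal_snd, pullback.lift_fst,
      pullback.lift_snd, Category.comp_id] at h1 h2
    exact h1.symm.trans h2
  have huni : ∀ {T : Over S} (q : T ⟶ W),
      (AlgSp.yon S).map q ≫ a = (AlgSp.yon S).map q ≫ (AlgSp.yon S).map k ≫ ε → ∃ q' : T ⟶ E, q' ≫ i = q := by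
    intro T q hq
    obtain ⟨q', hq'⟩ := (AlgSp.yon S).map_surjective ((hsep.1.isPullback γ).lift
      ((AlgSp.yon S).map q ≫ a) ((AlgSp.yon S).map q) (pullback.hom_ext
        (by simp [γ, pullback.lift_fst]) (by simp [γ, pullback.lift_snd, hq])))
    refine ⟨q', (AlgSp.yon S).map_injective ?_⟩
    rw [Functor.map_comp, hq']
    exact (hsep.1.isPullback γ).lift_snd _ _ _
  -- it is étale over the base
  haveI : Etale (i ≫ k).left := by
    let P := ha.1.pullback ε
    obtain ⟨p, hp⟩ := (AlgSp.yon S).map_surjective (ha.1.fst ε)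
    let z' : P ⟶ U := ha.1.snd ε
    have w : (AlgSp.yon S).map p ≫ a = (AlgSp.yon S).map z' ≫ ε := by rw [hp]; exact (ha.1.isPullback ε).w
    have hz : p ≫ k = z' := by
      apply (AlgSp.yon S).map_injective
      rw [Functor.map_comp, hk, ← Category.assoc, w, Category.assoc, hε, Category.comp_id]
    obtain ⟨p', hp'⟩ := huni p (by rw [w, ← hz, Functor.map_comp, Category.assoc])
    obtain ⟨i', hi'⟩ := (AlgSp.yon S).map_surjective ((ha.1.isPullback ε).lift ((AlgSp.yon S).map i)
      ((AlgSp.yon S).map (i ≫ k)) (by rw [hi, Functor.map_comp, Category.assoc]))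
    have h1 : i' ≫ p = i := by
      apply (AlgSp.yon S).map_injective
      rw [Functor.map_comp, hi', hp]; exact (ha.1.isPullback ε).lift_fst _ _ _
    have h2 : i' ≫ z' = i ≫ k := by
      apply (AlgSp.yon S).map_injective
      rw [Functor.map_comp, hi']; exact (ha.1.isPullback ε).lift_snd _ _ _
    have hu : p' ≫ i' = 𝟙 P := by
      apply (AlgSp.yon S).map_injective
      refine (ha.1.isPullback ε).hom_ext ?_ ?_
      · rw [← hp, ← Functor.map_comp, ← Functor.map_comp, Category.assoc, h1, hp', Category.id_comp]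
      · rw [← Functor.map_comp, ← Functor.map_comp, Category.assoc, h2, ← Category.assoc, hp', hz, Category.id_comp]
    let I : E ≅ P := ⟨i', p', (cancel_mono i).1 (by rw [Category.assoc, hp', h1, Category.id_comp]), hu⟩
    have : Etale z'.left := Groth.L23.repWith_snd ha ε
    rw [← h2, Over.comp_left]
    haveI : IsIso i'.left := ((Over.forget S).mapIso I).isIso_hom
    infer_instance
  haveI : LocallyOfFiniteType k.left := inferInstance
  haveI : LocallyOfFinitePresentation i.left := by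
    haveI : LocallyOfFinitePresentation (i.left ≫ k.left) := by rw [← Over.comp_left]; infer_instance
    exact Groth.L20.locallyOfFinitePresentation_of_comp _ k.left
  -- the open where the chart is the unit
  let N := unrOpen k.left
  haveI := formallyUnramified_unrOpen k.left
  haveI hres : Etale (i.left ∣_ N) := by
    haveI : Etale ((i.left ∣_ N) ≫ N.ι ≫ k.left) := by
      rw [morphismRestrict_ι_assoc, ← Over.comp_left]
      exact MorphismProperty.comp_mem _ _ _ inferInstance inferInstance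
    exact Etale.of_comp (i.left ∣_ N) (N.ι ≫ k.left)
  haveI : IsOpenImmersion (i.left ∣_ N) := IsOpenImmersion.of_flat_of_mono _
  let j : (i.left ⁻¹ᵁ N).toScheme ⟶ W.left := (i.left ∣_ N) ≫ N.ι
  let O := j.opensRange
  have hO : ∀ w, w ∈ O ↔ w ∈ Set.range i.left ∧ w ∈ N := by
    intro w
    have : j = (i.left ⁻¹ᵁ N).ι ≫ i.left := morphismRestrict_ι _ _
    show w ∈ Set.range j ↔ _
    rw [this]
    constructor
    · rintro ⟨e, rfl⟩; exact ⟨⟨_, rfl⟩, e.2⟩
    · rintro ⟨⟨e, rfl⟩, hw⟩; exact ⟨⟨e, hw⟩, rfl⟩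
  let Oo : Over S := Over.mk (O.ι ≫ W.hom)
  let ιO : Oo ⟶ W := Over.homMk O.ι rfl
  have hOeq : (AlgSp.yon S).map ιO ≫ a = (AlgSp.yon S).map ιO ≫ (AlgSp.yon S).map k ≫ ε := by
    let l := IsOpenImmersion.lift j O.ι (by rw [Scheme.Opens.range_ι]; rfl)
    have hl : (l ≫ (i.left ⁻¹ᵁ N).ι) ≫ i.left = O.ι := by
      rw [Category.assoc, ← morphismRestrict_ι]; exact IsOpenImmersion.lift_fac _ _ _
    let lo : Oo ⟶ E := Over.homMk (l ≫ (i.left ⁻¹ᵁ N).ι) (by
      show (l ≫ (i.left ⁻¹ᵁ N).ι) ≫ E.hom = O.ι ≫ W.hom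
      rw [← hl]
      exact ((congrArg ((l ≫ (i.left ⁻¹ᵁ N).ι) ≫ ·) (Over.w i)).symm).trans (Category.assoc _ _ _).symm)
    have : lo ≫ i = ιO := Over.OverMorphism.ext hl
    rw [← this, Functor.map_comp, Category.assoc, hi, Category.assoc]
  have hOmax : ∀ (O' : W.left.Opens) (o : Over.mk (O'.ι ≫ W.hom) ⟶ W) (_ : o.left = O'.ι),
      (AlgSp.yon S).map o ≫ a = (AlgSp.yon S).map o ≫ (AlgSp.yon S).map k ≫ ε → O' ≤ O := by
    intro O' o ho h w hw
    obtain ⟨l, hl⟩ := huni o h
    have hl' : l.left ≫ i.left = O'.ι := by rw [← Over.comp_left, hl, ho]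
    refine (hO w).2 ⟨⟨l.left ⟨w, hw⟩, by rw [← Scheme.Hom.comp_apply, hl']; rfl⟩, ?_⟩
    refine (mem_unrOpen k.left).2 ⟨O', hw, ?_⟩
    haveI : FormallyUnramified (l.left ≫ i.left) := by rw [hl']; infer_instance
    haveI : FormallyUnramified l.left := FormallyUnramified.of_comp l.left i.left
    have : O'.ι ≫ k.left = l.left ≫ (i ≫ k).left := by rw [Over.comp_left, ← Category.assoc, hl']
    rw [this]
    exact MorphismProperty.comp_mem _ _ _ inferInstance inferInstance
  have hsat : ∀ w w', AlgSp.Points.ofPt a w = AlgSp.Points.ofPt a w' → w ∈ O → w' ∈ O := by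
    intro w w' e hw
    let R := ha.1.pullback a
    let q : R ⟶ W := ha.1.snd a
    obtain ⟨p, hp⟩ := (AlgSp.yon S).map_surjective (ha.1.fst a)
    have sq : IsPullback ((AlgSp.yon S).map p) ((AlgSp.yon S).map q) a a := by
      rw [hp]; exact ha.1.isPullback a
    obtain ⟨r, hr, hr'⟩ := (Groth.L23.ofPt_eq_ofPt_iff sq w w').1 e
    haveI : Etale q.left := Groth.L23.repWith_snd ha a
    haveI : Etale p.left := (AlgSp.repWith_yon_map_iff @Etale p).1 (Groth.L23.repWith_of_isPullback sq.flip ha)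
    let M : R.left.Opens := p.left ⁻¹ᵁ O
    let O' : W.left.Opens := ⟨Set.range (M.ι ≫ q.left), (Scheme.Hom.isOpenMap (M.ι ≫ q.left)).isOpen_range⟩
    refine hOmax O' (Over.homMk O'.ι rfl) rfl ?_ ⟨⟨r, by show p.left r ∈ O; rw [hr]; exact hw⟩, hr'⟩
    let π₀ : M.toScheme ⟶ O'.toScheme := IsOpenImmersion.lift O'.ι (M.ι ≫ q.left)
      (by rintro _ ⟨x, rfl⟩; exact ⟨⟨_, ⟨x, rfl⟩⟩, rfl⟩)
    have hπ₀ : π₀ ≫ O'.ι = M.ι ≫ q.left := IsOpenImmersion.lift_fac _ _ _
    haveI : Etale (π₀ ≫ O'.ι) := by rw [hπ₀]; infer_instance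
    haveI : Etale π₀ := Etale.of_comp π₀ O'.ι
    haveI : Surjective π₀ := ⟨by
      rintro ⟨_, m, rfl⟩
      exact ⟨m, Subtype.ext (by
        have := congrArg (fun f : M.toScheme ⟶ W.left => f m) hπ₀
        exact this)⟩⟩
    let Mo : Over S := Over.mk (M.ι ≫ R.hom)
    let ιM : Mo ⟶ R := Over.homMk M.ι rfl
    let π : Mo ⟶ Over.mk (O'.ι ≫ W.hom) := Over.homMk π₀ (by
      show π₀ ≫ O'.ι ≫ W.hom = M.ι ≫ R.hom
      rw [← Category.assoc, hπ₀, Category.assoc, Over.w q])
    haveI : Surjective π.left := ‹Surjective π₀›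
    haveI : Flat π.left := inferInstanceAs (Flat π₀)
    haveI : LocallyOfFinitePresentation π.left := inferInstanceAs (LocallyOfFinitePresentation π₀)
    haveI := Groth.L24.Thick.epi_yon_map π
    let m : Mo ⟶ Oo := Over.homMk (IsOpenImmersion.lift O.ι (M.ι ≫ p.left) (by
        rintro _ ⟨x, rfl⟩; exact ⟨⟨_, x.2⟩, rfl⟩)) (by
      show IsOpenImmersion.lift O.ι (M.ι ≫ p.left) _ ≫ O.ι ≫ W.hom = M.ι ≫ R.hom
      rw [IsOpenImmersion.lift_fac_assoc, Category.assoc, Over.w p])
    have hm : m ≫ ιO = ιM ≫ p := Over.OverMorphism.ext (IsOpenImmersion.lift_fac _ _ _)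
    have hq : π ≫ (Over.homMk O'.ι rfl : Over.mk (O'.ι ≫ W.hom) ⟶ W) = ιM ≫ q := Over.OverMorphism.ext hπ₀
    rw [← cancel_epi ((AlgSp.yon S).map π), ← Category.assoc, ← Functor.map_comp, hq]
    conv_rhs => rw [← Category.assoc, ← Functor.map_comp, hq, ← Category.assoc]
    have e1 : (AlgSp.yon S).map (ιM ≫ q) ≫ a = (AlgSp.yon S).map (ιM ≫ p) ≫ a := by
      rw [Functor.map_comp, Functor.map_comp, Category.assoc, Category.assoc, sq.w]
    have e2 : (AlgSp.yon S).map (ιM ≫ q) ≫ (AlgSp.yon S).map k =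
        (AlgSp.yon S).map (ιM ≫ p) ≫ (AlgSp.yon S).map k := by
      rw [hk, ← Category.assoc, e1, Category.assoc]
    rw [e1, e2, ← hm, Functor.map_comp]
    simp only [Category.assoc]
    rw [hOeq]
  -- the locus in the base
  have hkpt : ∀ w, AlgSp.Points.map d (AlgSp.Points.ofPt a w) = AlgSp.Points.ofScheme U (k.left w) := fun w => by
    rw [AlgSp.Points.map_ofPt, ← hk, Groth.L23.ofPt_map]
  have hclosed : IsClosed (k.left '' ((O : Set W.left)ᶜ)) := by
    have h1 : IsClosedMap (AlgSp.Points.map d) :=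
      huc (AlgSp.IsAlgSpace.yon_obj U) (𝟙 _) (𝟙 _) d
        (IsPullback.of_horiz_isIso ⟨by rw [Category.id_comp, Category.comp_id]⟩)
    have hsurj := Groth.L23.surjective_ofPt has
    have h2 : AlgSp.Points.ofPt a '' ((O : Set W.left)ᶜ) = (AlgSp.Points.ofPt a '' (O : Set W.left))ᶜ := by
      ext x
      constructor
      · rintro ⟨w, hw, rfl⟩ ⟨w', hw', e⟩; exact hw (hsat w' w e hw')
      · intro hx
        obtain ⟨w, rfl⟩ := hsurj x
        exact ⟨w, fun hw => hx ⟨w, hw, rfl⟩, rfl⟩
    have h3 : IsClosed (AlgSp.Points.map d '' (AlgSp.Points.ofPt a '' ((O : Set W.left)ᶜ))) :=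
      h1 _ (by rw [h2]; exact (Groth.L23.isOpenMap_ofPt ha _ O.2).isClosed_compl)
    have h4 : k.left '' ((O : Set W.left)ᶜ) = AlgSp.Points.schemeHomeo U ⁻¹'
        (AlgSp.Points.map d '' (AlgSp.Points.ofPt a '' ((O : Set W.left)ᶜ))) := by
      ext x
      constructor
      · rintro ⟨w, hw, rfl⟩; exact ⟨_, ⟨w, hw, rfl⟩, hkpt w⟩
      · rintro ⟨_, ⟨w, hw, rfl⟩, e⟩
        exact ⟨w, hw, (AlgSp.Points.schemeEquiv U).injective ((hkpt w).symm.trans e)⟩
    rw [h4]
    exact h3.preimage (AlgSp.Points.schemeHomeo U).continuous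
  let V : U.left.Opens := ⟨(k.left '' ((O : Set W.left)ᶜ))ᶜ, hclosed.isOpen_compl⟩
  refine ⟨V, fun T g => ⟨fun hg t => ?_, fun hg Q r l hl => ?_⟩, fun _ _ => ?_⟩
  · rintro ⟨w, hw, hwt⟩
    refine hw ?_
    let P := pullback g k
    let pr : P ⟶ T := pullback.fst g k
    let pq : P ⟶ W := pullback.snd g k
    have sq₀ : IsPullback pq pr k g := (IsPullback.of_hasPullback g k).flip
    have sq : IsPullback pq.left pr.left k.left g.left := sq₀.map (Over.forget S)
    obtain ⟨z, hz, hz'⟩ := Scheme.Pullback.exists_preimage_pullback w t hwt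
    obtain ⟨q', hq'⟩ := huni pq (by
      rw [hg P pr ((AlgSp.yon S).map pq ≫ a) (by rw [Category.assoc, ← hk, ← Functor.map_comp, sq₀.w]),
        ← sq₀.w, Functor.map_comp, Category.assoc])
    have hz2 : pq.left (sq.isoPullback.inv z) = w := by
      rw [← Scheme.Hom.comp_apply, sq.isoPullback_inv_fst, hz]
    refine (hO w).2 ⟨⟨q'.left (sq.isoPullback.inv z), ?_⟩, ?_⟩
    · rw [← Scheme.Hom.comp_apply, ← Over.comp_left, hq', hz2]
    · have sq' : IsPullback q'.left pr.left (i ≫ k).left g.left := by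
        refine IsPullback.map (Over.forget S) (f := q') (g := pr) (h := i ≫ k) (i := g)
          ⟨⟨by rw [← Category.assoc, hq', sq₀.w]⟩, ⟨PullbackCone.IsLimit.mk _
            (fun s => sq₀.lift (s.fst ≫ i) s.snd (by rw [Category.assoc]; exact s.condition))
            (fun s => by
              rw [← cancel_mono i, Category.assoc, hq']
              exact sq₀.lift_fst _ _ _)
            (fun s => sq₀.lift_snd _ _ _)
            (fun s m h1 h2 => sq₀.hom_ext (by rw [sq₀.lift_fst, ← hq', ← Category.assoc, h1])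
              (by rw [sq₀.lift_snd, h2]))⟩⟩
      haveI : Etale pr.left := MorphismProperty.of_isPullback sq' inferInstance
      have hu : Nhd @FormallyUnramified pr.left (sq.isoPullback.inv z) := ⟨⊤, trivial, inferInstance⟩
      rw [mem_unrOpen, ← hz2]
      exact nhd_formallyUnramified_of_isPullback sq hu
  · let T' := ha.1.pullback l
    obtain ⟨q, hq⟩ := (AlgSp.yon S).map_surjective (ha.1.fst l)
    let π : T' ⟶ Q := ha.1.snd l
    have w : (AlgSp.yon S).map q ≫ a = (AlgSp.yon S).map π ≫ l := by rw [hq]; exact (ha.1.isPullback l).w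
    haveI : Etale π.left := Groth.L23.repWith_snd ha l
    haveI : Surjective π.left := Groth.L23.repWith_snd has l
    have hk' : (AlgSp.yon S).map q ≫ (AlgSp.yon S).map k = (AlgSp.yon S).map π ≫ (AlgSp.yon S).map (r ≫ g) := by
      rw [hk, ← Category.assoc, w, Category.assoc, hl]
    have hqk : q ≫ k = π ≫ r ≫ g := by
      apply (AlgSp.yon S).map_injective
      rw [Functor.map_comp, hk', ← Functor.map_comp]
    have hqO : ∀ x, q.left x ∈ O := fun x => by_contra fun hx => hg (r.left (π.left x)) ⟨q.left x, hx, by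
      rw [← Scheme.Hom.comp_apply, ← Over.comp_left, hqk]; rfl⟩
    let q' : T' ⟶ Oo := Over.homMk (IsOpenImmersion.lift O.ι q.left (by
        rintro _ ⟨x, rfl⟩; exact ⟨⟨_, hqO x⟩, rfl⟩)) (by
      show IsOpenImmersion.lift O.ι q.left _ ≫ O.ι ≫ W.hom = T'.hom
      rw [IsOpenImmersion.lift_fac_assoc, Over.w q])
    have hq' : q' ≫ ιO = q := Over.OverMorphism.ext (IsOpenImmersion.lift_fac _ _ _)
    haveI := Groth.L24.Thick.epi_yon_map π
    rw [← cancel_epi ((AlgSp.yon S).map π), ← w, ← Category.assoc, ← hk', ← hq', Functor.map_comp,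
      Category.assoc, hOeq]
    simp only [Category.assoc]
  · haveI : QuasiCompact k.left := HasAffineProperty.iff_of_isAffine.mpr ‹CompactSpace W.left›
    have h1 : IsLocallyConstructible (Set.range i.left) := by
      rw [← Set.image_univ]
      exact i.left.isLocallyConstructible_image IsLocallyConstructible.univ
    have h2 : IsLocallyConstructible (O : Set W.left) := by
      have : (O : Set W.left) = Set.range i.left ∩ (N : Set W.left) := Set.ext hO
      rw [this]
      exact h1.inter (isLocallyConstructible_unrOpen k.left)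
    exact isCompact_of_isConstructible
      (k.left.isLocallyConstructible_image (fun x => let ⟨U₁, hx, hU₁, hc⟩ := h2 x; ⟨U₁, hx, hU₁, hc.compl⟩ :
        IsLocallyConstructible ((O : Set W.left)ᶜ))).isConstructible.compl

end Groth.L11.IsoNat.CleanOpen
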