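import Groth.Agent.L11.IsoNat.CleanOpen.Chart
import Groth.Agent.L11.IsoNat.Dbl.Inertia
import Groth.Agent.L11.IsoNat.Smooth
import Groth.Agent.L11.IsoNat.OpenSub

/-!
# The clean locus of a stack with proper inertia
-/

set_option autoImplicit false
set_option backward.isDefEq.respectTransparency false
set_option backward.isDefEq.respectTransparency.types false

universe u

open CategoryTheory CategoryTheory.Limits AlgebraicGeometry AlgSt Topology TopologicalSpace

noncomputable section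

namespace Groth.L11.IsoNat.CleanOpen

open Groth.L24.St Groth.L24.Sub

variable {S : Scheme.{u}} {𝒳 : AlgSt.Cat S}

theorem isClean_of_hom {y x : 𝒳.obj} (φ : y ⟶ x) (h : IsoNat.IsClean x) : IsoNat.IsClean y :=
  fun z ψ s hs => h z (ψ ≫ φ) s hs

section Bridge

variable {U : Over S} (x : FibCat.overCat U ⥤ᵇ 𝒳)

theorem isClean_chart_iff (h : FibCat.IsFibGrpd 𝒳.p) {T : Over S} (g : T ⟶ U) :
    IsoNat.IsClean (x.obj (Over.mk g)) ↔
      ∀ (Q : Over S) (b : Q ⟶ U) (r : Q ⟶ T) (_ : r ≫ g = b) (s : AutPt x b), s.g.hom = 𝟙 _ := by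
  constructor
  · intro hc Q b r hb s
    refine hc _ (x.map (ovm r hb)) s.g.hom ?_
    obtain ⟨_, h1⟩ := s.hg.eq
    exact h1.trans (eqToHom_refl _ _)
  · intro hs z φ s hps
    have hw : 𝒳.p.obj (x.obj (Over.mk g)) = T := x.w_obj _
    let r : 𝒳.p.obj z ⟶ T := 𝒳.p.map φ ≫ eqToHom hw
    have : 𝒳.p.IsHomLift r φ := IsHomLift.of_fac 𝒳.p r φ rfl hw (by simp [r])
    have := map_ovm_lift x (b' := r ≫ g) r rfl
    have := L09.Fib.stronglyCartesian_of_isFibGrpd _ h r (x.map (ovm (b' := r ≫ g) (b := g) r rfl))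
    let c := Functor.IsCartesian.map 𝒳.p r (x.map (ovm (b' := r ≫ g) (b := g) r rfl)) φ
    have hc : 𝒳.p.IsHomLift (𝟙 (𝒳.p.obj z)) c := Functor.IsCartesian.map_isHomLift _ _ _ _
    have := L09.Fib.isIso_of_isFibGrpd _ h (𝟙 (𝒳.p.obj z)) c
    have hs' : 𝒳.p.IsHomLift (𝟙 (𝒳.p.obj z)) s := IsHomLift.of_fac 𝒳.p _ _ rfl rfl (by simp [hps])
    have := L09.Fib.isIso_of_isFibGrpd _ h (𝟙 (𝒳.p.obj z)) s
    let t : AutPt x (r ≫ g) := ⟨(asIso c).symm ≪≫ asIso s ≪≫ asIso c,
      (OverId.inv (i := asIso c) (overId_of_lift hc)).comp ((overId_of_lift hs').comp (overId_of_lift hc))⟩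
    have ht : inv c ≫ s ≫ c = 𝟙 _ := hs _ _ r rfl t
    rw [IsIso.inv_comp_eq, Category.comp_id] at ht
    exact (cancel_mono c).1 (ht.trans (Category.id_comp c).symm)

variable {G : AlgSp.Sp S} {e : AlgSt.ofSp G ⥤ᵇ FibCat.fp x (FibCat.inertiaToBase (FibCat.toSelf 𝒳))}

theorem autOf_eq {T : Over S} {l : (AlgSp.yon S).obj T ⟶ G} {b : T ⟶ U} {g g' : AutPt x b}
    (hg : AutOf x e l g) (hg' : AutOf x e l g') : g = g' := by
  obtain ⟨j, hj, hw⟩ := hg
  obtain ⟨j', hj', hw'⟩ := hg'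
  have hjj : j = j' := Iso.ext (Over.OverMorphism.ext (hj.trans hj'.symm))
  subst hjj
  obtain ⟨g, hg⟩ := g
  obtain ⟨g', hg'⟩ := g'
  have : g = g' := Iso.ext ((cancel_mono (x.toFunctor.mapIso j).hom).1 (hw.trans hw'.symm))
  subst this; rfl

/-- The trivial automorphism. -/
def idAut {T : Over S} (b : T ⟶ U) : AutPt x b := ⟨Iso.refl _, overId_id _⟩

theorem exists_unit (h : FibCat.IsFibGrpd 𝒳.p) (he : FibCat.IsEquivOver e) :
    ∃ ε : (AlgSp.yon S).obj U ⟶ G,
      ε ≫ AlgSt.spMapOfOver (BasedFunctor.comp e (FibCat.fpFst x (FibCat.inertiaToBase (FibCat.toSelf 𝒳)))) = 𝟙 _ ∧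
      ∀ {T : Over S} (b : T ⟶ U), AutOf x e ((AlgSp.yon S).map b ≫ ε) (idAut x b) := by
  obtain ⟨ε, hε⟩ := exists_autSection x e he (idAut x (𝟙 U))
  refine ⟨ε, (Dbl.autOf_fst hε).trans ((AlgSp.yon S).map_id U), fun {T} b => ?_⟩
  obtain ⟨b', g', hg'⟩ := exists_autOf x e ((AlgSp.yon S).map b ≫ ε)
  have hr := AutOf.restr x e b hg' hε
  obtain rfl : b' = b := hr.choose.symm.trans (Category.comp_id b)
  have : g' = idAut x b' := ARestr.unique h hr
    ⟨Category.comp_id b', (Category.id_comp _).trans (Category.comp_id _).symm⟩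
  exact this ▸ hg'

theorem isClean_chart_iff_only (h : FibCat.IsFibGrpd 𝒳.p) (he : FibCat.IsEquivOver e)
    {ε : (AlgSp.yon S).obj U ⟶ G}
    (hε : ∀ {T : Over S} (b : T ⟶ U), AutOf x e ((AlgSp.yon S).map b ≫ ε) (idAut x b)) {T : Over S} (g : T ⟶ U) :
    IsoNat.IsClean (x.obj (Over.mk g)) ↔
      Only (AlgSt.spMapOfOver (BasedFunctor.comp e (FibCat.fpFst x (FibCat.inertiaToBase (FibCat.toSelf 𝒳))))) ε g := by
  rw [isClean_chart_iff x h]
  constructor
  · intro hc Q r l hl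
    obtain ⟨b, s, hs⟩ := exists_autOf x e l
    obtain rfl : b = r ≫ g := (AlgSp.yon S).map_injective ((Dbl.autOf_fst hs).symm.trans hl)
    have : s = idAut x (r ≫ g) := by
      obtain ⟨s, hs'⟩ := s
      have := hc Q _ r rfl ⟨s, hs'⟩
      have : s = Iso.refl _ := Iso.ext this
      subst this; rfl
    exact Dbl.autOf_injective he (this ▸ hs) (hε _)
  · intro ho Q b r hb s
    subst hb
    obtain ⟨l, hl⟩ := exists_autSection x e he s
    have := ho Q r l (Dbl.autOf_fst hl)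
    subst this
    rw [autOf_eq x hl (hε _)]
    rfl

end Bridge

section Locus

variable (hX : IsAlgStack Scheme.fppfPrecoverage 𝒳)
  (hi : RepByAlgSpWith (AlgSp.LocP @LocallyOfFinitePresentation) (FibCat.inertiaToBase (FibCat.toSelf 𝒳)))
  (hpr : RepByAlgSpWith AlgSp.IsProperMor (FibCat.inertiaToBase (FibCat.toSelf 𝒳)))

include hX hi hpr

theorem exists_cleanOpen (U : Over S) (x : FibCat.overCat U ⥤ᵇ 𝒳) :
    ∃ V : U.left.Opens, (∀ (T : Over S) (g : T ⟶ U), IsoNat.IsClean (x.obj (Over.mk g)) ↔ ∀ t, g.left t ∈ V) ∧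
      (IsAffine U.left → IsCompact (V : Set U.left)) := by
  obtain ⟨F, e, he, ⟨hs, hft, huc⟩, hl⟩ := repWith_inf (pBase_locP Groth.L23.etLocal_lfp) hpr hi U x
  obtain ⟨ε, hε, hunit⟩ := exists_unit x hX.isStack.1 he
  have main : ∀ (W : Over S) (a : (AlgSp.yon S).obj W ⟶ F.obj), AlgSp.RepWith @Etale a → AlgSp.RepWith @Surjective a →
      ∃ V : U.left.Opens, (∀ (T : Over S) (g : T ⟶ U), IsoNat.IsClean (x.obj (Over.mk g)) ↔ ∀ t, g.left t ∈ V) ∧
      (IsAffine U.left → CompactSpace W.left → IsCompact (V : Set U.left)) := fun W a ha has => by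
    obtain ⟨V, h1, h2⟩ := exists_open hε hs huc hl a ha has
    exact ⟨V, fun T g => (isClean_chart_iff_only x hX.isStack.1 he hunit g).trans (h1 T g), h2⟩
  obtain ⟨W, a, ha, has⟩ := F.property.atlas
  obtain ⟨V, hV, -⟩ := main W a ha has
  refine ⟨V, hV, fun hU => ?_⟩
  haveI : CompactSpace U.left := inferInstance
  obtain ⟨W', a', ha', has', hW'⟩ := hft.2 (AlgSp.IsAlgSpace.yon_obj U) Groth.L23.isQuasiCompactSp_of_compactSpace
    (𝟙 _) (𝟙 _) _ (IsPullback.of_horiz_isIso ⟨by rw [Category.id_comp, Category.comp_id]⟩)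
  obtain ⟨V', hV', hc⟩ := main W' a' ha' has'
  have : V = V' := by
    ext u
    let pt : Over.mk (U.left.fromSpecResidueField u ≫ U.hom) ⟶ U := Over.homMk (U.left.fromSpecResidueField u) rfl
    have e1 : ∀ (A : U.left.Opens), (∀ t, pt.left t ∈ A) ↔ u ∈ A := fun A => by
      constructor
      · intro h
        have := h (IsLocalRing.closedPoint _)
        rwa [show pt.left (IsLocalRing.closedPoint _) = u from Scheme.fromSpecResidueField_apply u _] at this
      · intro h t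
        rwa [show pt.left t = u from Scheme.fromSpecResidueField_apply u _]
    exact ((e1 V).symm.trans ((hV _ pt).symm.trans ((hV' _ pt).trans (e1 V'))))
  rw [this]
  exact hc hU hW'

theorem quasiCompact_cleanOpen (U : Over S) (x : FibCat.overCat U ⥤ᵇ 𝒳) (O : U.left.Opens)
    (hO : ∀ a : Over U, IsoNat.IsClean (x.obj a) ↔ ∀ v, a.hom.left v ∈ O) : QuasiCompact O.ι := by
  rw [quasiCompact_iff_forall_isAffineOpen]
  intro A hA
  let A' : Over S := Over.mk (A.ι ≫ U.hom)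
  let j : A' ⟶ U := Over.homMk A.ι rfl
  obtain ⟨V, hV, hc⟩ := exists_cleanOpen hX hi hpr A' (BasedFunctor.comp (overMap j) x)
  have hpre : (V : Set A'.left) = j.left ⁻¹' (O : Set U.left) := by
    ext u
    let pt : Over.mk (A'.left.fromSpecResidueField u ≫ A'.hom) ⟶ A' := Over.homMk (A'.left.fromSpecResidueField u) rfl
    have ep : ∀ t, pt.left t = u := fun t => Scheme.fromSpecResidueField_apply u t
    have h1 := (hV _ pt).symm.trans (hO (Over.mk (pt ≫ j)))
    constructor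
    · intro h
      have h2 : j.left (pt.left (IsLocalRing.closedPoint _)) ∈ O :=
        h1.1 (fun t => (congrArg (fun z => z ∈ V) (ep t)).mpr h) (IsLocalRing.closedPoint _)
      exact (congrArg (fun z => j.left z ∈ O) (ep _)).mp h2
    · intro h
      exact (congrArg (fun z => z ∈ V) (ep (IsLocalRing.closedPoint _))).mp
        (h1.2 (fun t => (congrArg (fun z => j.left z ∈ O) (ep t)).mpr h) (IsLocalRing.closedPoint _))
  haveI : IsAffine A'.left := hA
  have hcV : IsCompact (j.left '' (V : Set A'.left)) := (hc inferInstance).image j.left.continuous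
  have hrange : Set.range j.left = (A : Set U.left) := A.range_ι
  rw [hpre, Set.image_preimage_eq_inter_range, hrange] at hcV
  rw [O.ι.isOpenEmbedding.isInducing.isCompact_iff, Scheme.Hom.coe_preimage, Set.image_preimage_eq_inter_range]
  rw [Scheme.Opens.range_ι, Set.inter_comm]
  exact hcV

end Locus

/-- A morphism cut out by opens has the property of their inclusions. -/
theorem repWith_of_chart {P : MorphismProperty (AlgSp.Sp S)} {Q : 𝒳.obj → Prop}
    (hQ : ∀ ⦃y x : 𝒳.obj⦄ (_ : y ⟶ x), Q x → Q y)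
    (hO : ∀ (U : Over S) (y : FibCat.overCat U ⥤ᵇ 𝒳), ∃ O : U.left.Opens, (∀ a : Over U,
      Q (y.obj a) ↔ ∀ v, a.hom.left v ∈ O) ∧
      P ((AlgSp.yon S).map (Over.homMk O.ι rfl : Over.mk (O.ι ≫ U.hom) ⟶ U))) :
    RepByAlgSpWith P (subIncl 𝒳 Q) := by
  intro U y
  obtain ⟨O, hy, hP⟩ := hO U y
  let V : Over S := Over.mk (O.ι ≫ U.hom)
  let o : V ⟶ U := Over.homMk O.ι rfl
  have : Mono o := Over.mono_of_mono_left o
  let ι := subIncl 𝒳 Q
  have hmem : ∀ b, Q ((BasedFunctor.comp (overMap o) y).obj b) := fun b =>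
    (hy _).2 fun v => (b.hom.left v).2
  let σ : FibCat.overCat V ⥤ᵇ fullSub 𝒳 Q :=
    { toFunctor := ObjectProperty.lift _ (BasedFunctor.comp (overMap o) y).toFunctor hmem
      w := (BasedFunctor.comp (overMap o) y).w }
  let L := FibCat.fpLift (F := y) (G := ι) (overMap o) σ
    (show BasedFunctor.comp (overMap o) y ≅ BasedFunctor.comp σ ι from Iso.refl _)
  have hfst : (FibCat.fpFst y ι).toFunctor.Faithful := ⟨fun {η η'} {m m'} h => by
    have h' : m.hom.fst = m'.hom.fst := h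
    refine fp_ext h' ((ObjectProperty.ι Q).map_injective ?_)
    rw [← cancel_epi η.obj.iso.hom]
    exact (m.hom.w.symm.trans (by rw [h'])).trans m'.hom.w⟩
  have : L.toFunctor.Faithful := ⟨fun {a b} {m m'} h =>
    Over.OverMorphism.ext (congrArg (fun k => k.hom.fst.left) h)⟩
  have : L.toFunctor.Full := ⟨fun {a b} m => by
    let t := m.hom.fst
    have ht : t.left ≫ b.hom = a.hom := by
      rw [← cancel_mono o, Category.assoc]
      exact Over.w t
    exact ⟨Over.homMk t.left ht, hfst.map_injective (Over.OverMorphism.ext rfl)⟩⟩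
  have hL : FibCat.IsEquivOver L := isEquivOver_of_overId L fun η => by
    let a : Over U := η.obj.fst
    have hQa : Q (y.obj a) := hQ η.obj.iso.hom η.obj.snd.property
    have hr : Set.range a.hom.left ⊆ Set.range O.ι := by
      rintro - ⟨v, rfl⟩
      rw [Scheme.Opens.range_ι]
      exact (hy a).1 hQa v
    let l := IsOpenImmersion.lift O.ι a.hom.left hr
    have hl : l ≫ O.ι = a.hom.left := IsOpenImmersion.lift_fac _ _ _
    let b : Over V := Over.mk (Over.homMk l (by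
      show l ≫ O.ι ≫ U.hom = a.left.hom
      rw [← Category.assoc, hl, Over.w a.hom]) : a.left ⟶ V)
    let j : (overMap o).obj b ≅ a := Over.isoMk (Iso.refl _) (by
      refine (Category.id_comp _).trans (Over.OverMorphism.ext ?_)
      exact hl.symm)
    have hj : OverId j.hom := OverId.of_eq rfl rfl
    let i : (σ.obj b).obj ≅ η.obj.snd.obj := y.toFunctor.mapIso j ≪≫ η.obj.iso
    let i' : σ.obj b ≅ η.obj.snd := ObjectProperty.isoMk _ i
    let e : L.obj b ≅ η := fpIsoMk j i' (by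
      show y.map j.hom ≫ η.obj.iso.hom = 𝟙 _ ≫ (y.map j.hom ≫ η.obj.iso.hom)
      rw [Category.id_comp])
    exact ⟨b, e, overId_fp _ hj⟩
  refine ⟨⟨(AlgSp.yon S).obj V, AlgSp.IsAlgSpace.yon_obj V⟩, BasedFunctor.comp (toOverCat V) L,
    isEquivOver_comp (toOverCat_isEquivOver V) hL, ?_⟩
  rw [show BasedFunctor.comp (BasedFunctor.comp (toOverCat V) L) (FibCat.fpFst y ι) =
    BasedFunctor.comp (toOverCat V) (overMap o) from rfl, spMapOfOver_overMap, spMapOfOver_toOverCat,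
    Category.id_comp]
  exact hP

theorem main (hX : IsAlgStack Scheme.fppfPrecoverage 𝒳)
    (hi : RepByAlgSpWith (AlgSp.LocP @LocallyOfFinitePresentation) (FibCat.inertiaToBase (FibCat.toSelf 𝒳)))
    (hpr : RepByAlgSpWith AlgSp.IsProperMor (FibCat.inertiaToBase (FibCat.toSelf 𝒳))) :
    IsOpenSubstack 𝒳 (fun η => IsoNat.IsClean η) Scheme.fppfPrecoverage ∧
      RepByAlgSpWith AlgSp.IsQuasiCompactMor (subIncl 𝒳 (fun η => IsoNat.IsClean η)) := by
  have hQ : ∀ ⦃y x : 𝒳.obj⦄ (_ : y ⟶ x), IsoNat.IsClean x → IsoNat.IsClean y := fun _ _ => isClean_of_hom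
  have hO : ∀ (U : Over S) (y : FibCat.overCat U ⥤ᵇ 𝒳), ∃ O : U.left.Opens,
      ∀ a : Over U, IsoNat.IsClean (y.obj a) ↔ ∀ v, a.hom.left v ∈ O := fun U y => by
    obtain ⟨V, hV, -⟩ := exists_cleanOpen hX hi hpr U y
    exact ⟨V, fun a => hV a.left a.hom⟩
  have hI := isOpenImm_of_chart hQ hO
  refine ⟨⟨⟨fun e h => hQ e.inv h⟩,
    isAlgStack_of_rep1 (fullSub_isFibGrpd hX.isStack.1 _ hQ) hX _ (repWith_rep1 hI), hI⟩,
    repWith_of_chart hQ fun U y => ?_⟩
  obtain ⟨O, hO⟩ := hO U y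
  exact ⟨O, hO, Groth.L23.isQuasiCompactMor_of_repWith
    ((AlgSp.repWith_yon_map_iff @QuasiCompact _).2 (quasiCompact_cleanOpen hX hi hpr U y O hO))⟩

end Groth.L11.IsoNat.CleanOpen
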